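import Groth.Agent.Sga3.H830.TorBc
import Groth.Agent.Agf.H614.FieldGlue

/-!
# Groups without subtori in geometric fibres

`NoTor U`: the geometric fibres of `U` contain no non-trivial subtorus. Equivalently the unit section is a
maximal torus (`isMaximalTorus_unit_iff`); so the property is stable under arbitrary base change
(`noTor_bc`), and it descends along surjective morphisms (`noTor_of_bc`).
-/

set_option autoImplicit false
universe u
open CategoryTheory MonoidalCategory CartesianMonoidalCategory MonObj GrpObj AlgebraicGeometry Limits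

namespace K540.NoTor

open Groth.Agent.Sga3B Groth.Agent.Sga3B.TorusBc

variable {S : Scheme.{u}}

/-- The geometric fibres contain no non-trivial subtorus. -/
def NoTor (U : Over S) [GrpObj U] : Prop :=
  ∀ s : S, Red.HasNoSubtorus (AlgebraicClosure (S.residueField s)) (Red.geomFibre s U)

lemma mono_unit (U : Over S) [GrpObj U] : Mono (η[U] : 𝟙_ (Over S) ⟶ U) :=
  ⟨fun _ _ _ => toUnit_unique _ _⟩

lemma isTrivialGrp_unit : Red.IsTrivialGrp (𝟙_ (Over S)) := by
  exact inferInstanceAs (IsIso (𝟙 S))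

/-- A trivial group: the morphism to the unit object is an isomorphism. -/
lemma isIso_toUnit {G : Over S} (h : Red.IsTrivialGrp G) : IsIso (toUnit G) := by
  have h1 : IsIso (toUnit G).left := by
    rw [Over.toUnit_left]
    exact h
  have : IsIso ((Over.forget S).map (toUnit G)) := h1
  exact isIso_of_reflects_iso (toUnit G) (Over.forget S)

lemma isTrivialGrp_of_isIso_toUnit {G : Over S} [IsIso (toUnit G)] : Red.IsTrivialGrp G := by
  have h1 : IsIso (toUnit G).left := inferInstanceAs (IsIso ((Over.forget S).map (toUnit G)))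
  rwa [Over.toUnit_left] at h1

/-- Two trivial groups are isomorphic. -/
lemma nonempty_iso {G G' : Over S} [GrpObj G] [GrpObj G'] (h : Red.IsTrivialGrp G)
    (h' : Red.IsTrivialGrp G') : Nonempty (Grp.mk G ≅ Grp.mk G') := by
  have h1 := isIso_toUnit h
  have h2 := isIso_toUnit h'
  let e : G ≅ G' := asIso (toUnit G) ≪≫ (asIso (toUnit G')).symm
  have hu : ∀ {X : Over S} (f g : X ⟶ G'), f = g := fun f g => by
    rw [← cancel_mono (toUnit G')]
    exact toUnit_unique _ _
  have : IsMonHom e.hom := ⟨hu _ _, hu _ _⟩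
  exact ⟨Grp.mkIso' e⟩

/-- The diagonalisable group of the trivial group is trivial. -/
lemma isTrivialGrp_DS (S : Scheme.{u}) : Red.IsTrivialGrp (Red.DS S (Fin 0 → ℤ)) := by
  apply RedIso.isTrivialGrp_bc
  change IsIso (Spec.map (CommRingCat.ofHom (algebraMap (ULift.{u} ℤ)
    (MonoidAlgebra (ULift.{u} ℤ) (Multiplicative (Fin 0 → ℤ))))))
  have h : IsIso (CommRingCat.ofHom (algebraMap (ULift.{u} ℤ)
      (MonoidAlgebra (ULift.{u} ℤ) (Multiplicative (Fin 0 → ℤ))))) := by
    rw [ConcreteCategory.isIso_iff_bijective]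
    have h1 : Function.Bijective (algebraMap (ULift.{u} ℤ)
        (MonoidAlgebra (ULift.{u} ℤ) (Multiplicative (Fin 0 → ℤ)))) := by
      have h3 : ⇑(algebraMap (ULift.{u} ℤ) (MonoidAlgebra (ULift.{u} ℤ) (Multiplicative (Fin 0 → ℤ)))) =
          ⇑(MonoidAlgebra.uniqueAlgEquiv (ULift.{u} ℤ) (A := ULift.{u} ℤ)
            (Multiplicative (Fin 0 → ℤ))).symm := by
        funext a
        exact (AlgEquiv.commutes (MonoidAlgebra.uniqueAlgEquiv (ULift.{u} ℤ) (A := ULift.{u} ℤ)
            (Multiplicative (Fin 0 → ℤ))).symm a).symm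
      rw [h3]
      exact (MonoidAlgebra.uniqueAlgEquiv (ULift.{u} ℤ) (A := ULift.{u} ℤ)
          (Multiplicative (Fin 0 → ℤ))).symm.bijective
    exact h1
  infer_instance

/-- The trivial group is a torus. -/
theorem isTorus_of_isTrivialGrp {T : Over S} [GrpObj T] (h : Red.IsTrivialGrp T) : Red.IsTorus T := by
  refine ⟨S, 𝟙 S, inferInstance, inferInstance, fun V hV => ⟨V, hV.isCompact, by simp⟩, fun s =>
    ⟨⊤, trivial, 0, nonempty_iso (RedIso.isTrivialGrp_bc _ h) (isTrivialGrp_DS _)⟩⟩

variable {U : Over S} [GrpObj U]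

theorem isMaximalTorus_of_noTor (h : NoTor U) : Red.IsMaximalTorus (η[U] : 𝟙_ (Over S) ⟶ U) := by
  refine ⟨inferInstance, mono_unit U, isTorus_of_isTrivialGrp isTrivialGrp_unit, fun s T' _ j _ _ f hT' _ => ?_⟩
  have h1 : Red.IsTrivialGrp T' := h s T' j hT'
  have h2 : Red.IsTrivialGrp (Red.geomFibre s (𝟙_ (Over S))) := RedIso.isTrivialGrp_bc _ isTrivialGrp_unit
  have h3 := isIso_toUnit h1
  have h4 := isIso_toUnit h2
  have h5 : f ≫ toUnit T' = toUnit _ := toUnit_unique _ _
  have h6 : IsIso (f ≫ toUnit T') := by rw [h5]; exact h4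
  exact IsIso.of_isIso_comp_right f (toUnit T')

theorem noTor_of_isMaximalTorus {T : Over S} [GrpObj T] (hT : Red.IsTrivialGrp T) {i : T ⟶ U}
    (h : Red.IsMaximalTorus i) : NoTor U := by
  intro s T' _ j _ _ hT'
  have hi := h.1
  have h2 : Red.IsTrivialGrp (Red.geomFibre s T) := RedIso.isTrivialGrp_bc _ hT
  have h4 := isIso_toUnit h2
  have h5 : ∀ {X : Over _} (f g : X ⟶ Red.geomFibre s T), f = g := fun f g => by
    rw [← cancel_mono (toUnit (Red.geomFibre s T))]
    exact toUnit_unique _ _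
  have e1 : η[Red.geomFibre s T] ≫ toUnit (Red.geomFibre s T) = 𝟙 _ := toUnit_unique _ _
  have e2 : toUnit (Red.geomFibre s T) ≫ η[Red.geomFibre s T] = 𝟙 _ := h5 _ _
  have e3 : Epi (η[Red.geomFibre s T]) := ⟨fun a b hab => by
    rw [← Category.id_comp a, ← Category.id_comp b, ← e2, Category.assoc, Category.assoc, hab]⟩
  have h6 : IsIso (toUnit (Red.geomFibre s T) ≫ η[T']) := by
    refine h.2.2.2 s T' j _ hT' ?_
    rw [← cancel_epi (η[Red.geomFibre s T]), ← Category.assoc, ← Category.assoc, e1, Category.id_comp,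
      IsMonHom.one_hom, IsMonHom.one_hom]
  have h7 : toUnit T' ≫ inv (toUnit (Red.geomFibre s T)) ≫ (toUnit (Red.geomFibre s T) ≫ η[T']) = toUnit T' ≫ η[T'] := by
    rw [IsIso.inv_hom_id_assoc]
  have h8 : IsIso η[T'] := IsIso.of_isIso_comp_left (toUnit (Red.geomFibre s T)) _
  have h9 : η[T'] ≫ toUnit T' = 𝟙 _ := toUnit_unique _ _
  have h10 : IsIso (toUnit T') := by
    have h11 : IsIso (η[T'] ≫ toUnit T') := by rw [h9]; infer_instance
    exact IsIso.of_isIso_comp_left η[T'] _
  exact isTrivialGrp_of_isIso_toUnit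

theorem isMaximalTorus_unit_iff : Red.IsMaximalTorus (η[U] : 𝟙_ (Over S) ⟶ U) ↔ NoTor U :=
  ⟨noTor_of_isMaximalTorus isTrivialGrp_unit, isMaximalTorus_of_noTor⟩

/-- Stability under base change. -/
theorem noTor_bc [LocallyOfFiniteType U.hom] {S' : Scheme.{u}} (f : S' ⟶ S) (h : NoTor U) :
    NoTor (Red.bc f U) :=
  noTor_of_isMaximalTorus (RedIso.isTrivialGrp_bc f isTrivialGrp_unit)
    (Groth.Agent.Sga3.H830.TorBc.isMaximalTorus_bc f (isMaximalTorus_of_noTor h))

/-- Descent of triviality along a faithfully flat quasi-compact base change. -/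
lemma isTrivialGrp_of_bc {S' : Scheme.{u}} (f : S' ⟶ S) [Surjective f] [Flat f] [QuasiCompact f]
    {G : Over S} (h : Red.IsTrivialGrp (Red.bc f G)) : Red.IsTrivialGrp G := by
  have h1 := isIso_toUnit h
  have h2 : IsIso ((Over.pullback f).map (toUnit G)) := by
    have h3 : Red.IsTrivialGrp (Red.bc f (𝟙_ (Over S))) := RedIso.isTrivialGrp_bc f isTrivialGrp_unit
    have h4 := isIso_toUnit h3
    have h5 : (Over.pullback f).map (toUnit G) ≫ toUnit _ = toUnit _ := toUnit_unique _ _
    have h6 : IsIso ((Over.pullback f).map (toUnit G) ≫ toUnit (Red.bc f (𝟙_ (Over S)))) := by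
      rw [h5]; exact h1
    exact IsIso.of_isIso_comp_right _ (toUnit (Red.bc f (𝟙_ (Over S))))
  have h7 := Par.DynDesc383.isIso_of_bc f (toUnit G)
  exact isTrivialGrp_of_isIso_toUnit

/-- Descent along surjective base change. -/
theorem noTor_of_bc {S' : Scheme.{u}} (f : S' ⟶ S) [Surjective f] (h : NoTor (Red.bc f U)) : NoTor U := by
  intro s T _ j _ _ hT
  obtain ⟨s', hs'⟩ := f.surjective s
  subst hs'
  have hθ : ∃ θ : Spec (CommRingCat.of (AlgebraicClosure (S'.residueField s'))) ⟶
      Spec (CommRingCat.of (AlgebraicClosure (S.residueField (f s')))),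
      θ ≫ Red.geomPt (f s') = Red.geomPt s' ≫ f := by
    let φ : S.residueField (f s') ⟶ S'.residueField s' := f.residueFieldMap s'
    let _ : Algebra (S.residueField (f s')) (AlgebraicClosure (S'.residueField s')) :=
      ((algebraMap (S'.residueField s') (AlgebraicClosure (S'.residueField s'))).comp φ.hom).toAlgebra
    let l : AlgebraicClosure (S.residueField (f s')) →ₐ[S.residueField (f s')]
      AlgebraicClosure (S'.residueField s') := IsAlgClosed.lift
    refine ⟨Spec.map (CommRingCat.ofHom l.toRingHom), ?_⟩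
    rw [Red.geomPt, Red.geomPt, Category.assoc,
      ← Scheme.Hom.SpecMap_residueFieldMap_fromSpecResidueField,
      ← Category.assoc, ← Category.assoc, ← Spec.map_comp, ← Spec.map_comp]
    congr 2
    ext x
    exact l.commutes x
  obtain ⟨θ, hθ⟩ := hθ
  let e : Grp.mk (Red.bc θ (Red.geomFibre (f s') U)) ≅ Grp.mk (Red.geomFibre s' (Red.bc f U)) :=
    (BcIso.bcCompIso θ (Red.geomPt (f s')) U).symm ≪≫ BcIso.bcCongrIso hθ U ≪≫
      BcIso.bcCompIso (Red.geomPt s') f U
  have h1 := h s' (Red.bc θ T) ((Over.pullback θ).map j ≫ (RedIso.und e).hom) (isTorus_bc θ hT)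
  have : Surjective θ := Groth.Agent.Agf.H614.FieldGlue.surjective_spec_field θ
  have : Flat θ := Groth.Agent.Agf.H614.FieldGlue.flat_of_spec_field θ
  exact isTrivialGrp_of_bc θ h1

section field

variable {K : Type u} [Field K] [IsAlgClosed K] {V : Over (Spec (CommRingCat.of K))} [GrpObj V]

theorem hasNoSubtorus_of_noTor (h : NoTor V) : Red.HasNoSubtorus K V := by
  intro T _ j _ _ hT
  let s : Spec (CommRingCat.of K) := IsLocalRing.closedPoint K
  have h0 : IsIso (Red.geomPt s) := RG.BrMax.isIso_geomPt s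
  have h1 : Red.IsTrivialGrp (Red.geomFibre s T) :=
    h s (Red.geomFibre s T) ((Over.pullback (Red.geomPt s)).map j) (isTorus_bc (Red.geomPt s) hT)
  exact RedIso.isTrivialGrp_of_bc (Red.geomPt s) h1

theorem noTor_of_hasNoSubtorus (h : Red.HasNoSubtorus K V) : NoTor V := by
  intro s
  have h0 : IsIso (Red.geomPt s) := RG.BrMax.isIso_geomPt s
  exact RedIso.hasNoSubtorus_bc (Red.geomPt s) h

end field

end K540.NoTor
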