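import Groth.Agent.Agf.H609.FixConj
import Groth.Agent.Agf.H609.DefSub
import Groth.Agent.Sga3B.RG.ConnAct

/-!
# Sets of points defined over a subfield

`k ⊆ K` fields, `A` a commutative Hopf algebra over `k`.  A set `S` of points of `K ⊗ A` is defined
over `k` (`DefSet k K S`) when its vanishing ideal is.

* `DefSet.image2`, `DefSet.image`: images under maps defined over `k`;
* `DefSet.mul`, `DefSet.inv`, `DefSet.conj`, `DefSet.iUnion`, `DefSet.pow`;
* `DefSet.closure`: the subgroup generated by a set defined over `k` is defined over `k`;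
* `DefSet.normalClosure`;
* `exists_normal_of_subset`: the closed normal subgroup generated by an irreducible `k`-defined set
  through `1` is connected and defined over `k`.
-/

set_option autoImplicit false

universe u

open TensorProduct Coalgebra WithConv Pointwise
open Groth.Agent.Sga3B.RG
open Groth.Agent.Agf.H601 (inc IsDef conjCo)
open Groth.Agent.Agf.H127.DefOver
open Groth.Agent.Agf.H609 Groth.Agent.Agf.H609.DefSub
open Groth.Agent.Books.DynBasic (mapPt)
open Groth.Agent.Sga3B.Par.CochBC (res)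

namespace K540.DefPts

noncomputable section

section linear

variable {k K : Type u} [Field k] [Field K] [Algebra k K] {V W : Type u} [AddCommGroup V] [Module k V]
  [AddCommGroup W] [Module k W]

/-- `f : V → K` is extended to `K ⊗ V → K`. -/
def ext (f : V →ₗ[k] K) : K ⊗[k] V →ₗ[k] K := LinearMap.mul' k K ∘ₗ f.lTensor K

lemma ext_tmul (f : V →ₗ[k] K) (c : K) (v : V) : ext f (c ⊗ₜ[k] v) = c * f v := rfl

/-- A set of functionals with values in `K` separates the elements of `K ⊗ V`. -/
def Sep (F : Set (V →ₗ[k] K)) : Prop := ∀ w : K ⊗[k] V, (∀ f ∈ F, ext f w = 0) → w = 0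

/-- the functional `f ⊗ g` on `V ⊗ W`. -/
def prodF (f : V →ₗ[k] K) (g : W →ₗ[k] K) : V ⊗[k] W →ₗ[k] K :=
  LinearMap.mul' k K ∘ₗ TensorProduct.map f g

lemma prodF_tmul (f : V →ₗ[k] K) (g : W →ₗ[k] K) (v : V) (w : W) :
    prodF f g (v ⊗ₜ[k] w) = f v * g w := rfl

/-- Products of separating sets are separating. -/
theorem sep_prod {F : Set (V →ₗ[k] K)} {G : Set (W →ₗ[k] K)} (hF : Sep F) (hG : Sep G)
    (z : K ⊗[k] (V ⊗[k] W)) (hz : ∀ f ∈ F, ∀ g ∈ G, ext (prodF f g) z = 0) : z = 0 := by
  classical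
  let b := Module.Free.chooseBasis k W
  -- the coordinate `V ⊗ W → V`
  let p : Module.Free.ChooseBasisIndex k W → V ⊗[k] W →ₗ[k] V := fun i =>
    (TensorProduct.rid k V).toLinearMap ∘ₗ (b.coord i).lTensor V
  have hp : ∀ i v w, p i (v ⊗ₜ[k] w) = b.coord i w • v := fun i v w => by
    simp [p]
  -- the partial evaluation
  let s : (V →ₗ[k] K) → K ⊗[k] (V ⊗[k] W) →ₗ[k] K ⊗[k] W := fun f =>
    TensorProduct.map (LinearMap.mul' k K) LinearMap.id ∘ₗ
      (TensorProduct.assoc k K K W).symm.toLinearMap ∘ₗ ((f.rTensor W).lTensor K)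
  have hs : ∀ f c v w, s f (c ⊗ₜ[k] (v ⊗ₜ[k] w)) = (c * f v) ⊗ₜ[k] w := fun f c v w => by
    simp [s]
  have h1 : ∀ f ∈ F, s f z = 0 := by
    intro f hf
    apply hG
    intro g hg
    rw [← hz f hf g hg]
    have : ext g ∘ₗ s f = ext (prodF f g) := by
      apply TensorProduct.ext'
      intro c t
      induction t with
      | zero => simp
      | add x y hx hy => rw [TensorProduct.tmul_add, map_add, map_add, hx, hy]
      | tmul v w =>
        rw [LinearMap.comp_apply, hs, ext_tmul, ext_tmul, prodF_tmul, mul_assoc]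
    exact congr($this z)
  have h2 : ∀ i, (p i).lTensor K z = 0 := by
    intro i
    apply hF
    intro f hf
    have : ext f ∘ₗ (p i).lTensor K = ext ((Algebra.linearMap k K) ∘ₗ b.coord i) ∘ₗ s f := by
      apply TensorProduct.ext'
      intro c t
      induction t with
      | zero => simp
      | add x y hx hy => rw [TensorProduct.tmul_add, map_add, map_add, hx, hy]
      | tmul v w =>
        rw [LinearMap.comp_apply, LinearMap.comp_apply, hs, LinearMap.lTensor_tmul, hp, ext_tmul,
          ext_tmul, map_smul, LinearMap.comp_apply, Algebra.linearMap_apply, Algebra.smul_def]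
        ring
    have h3 := congr($this z)
    rw [LinearMap.comp_apply, LinearMap.comp_apply, h1 f hf, map_zero] at h3
    exact h3
  -- conclude with the equivalence `V ⊗ W ≃ ι →₀ V`
  apply ext_coord k K
  intro j
  let c : K ⊗[k] (V ⊗[k] W) →ₗ[k] V ⊗[k] W := coord k K (V ⊗[k] W) j
  apply (TensorProduct.equivFinsuppOfBasisRight b).injective
  rw [map_zero]
  ext i
  rw [Finsupp.zero_apply]
  have h4 : ∀ t : V ⊗[k] W, TensorProduct.equivFinsuppOfBasisRight b t i = p i t := by
    intro t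
    induction t with
    | zero => simp
    | add x y hx hy => rw [map_add, Finsupp.add_apply, hx, hy, map_add]
    | tmul v w => rw [TensorProduct.equivFinsuppOfBasisRight_apply_tmul_apply, hp]; rfl
  rw [h4, ← coord_lTensor, h2, map_zero]

end linear

section def_

variable (k K : Type u) [Field k] [Field K] [Algebra k K]

/-- A set of points is defined over `k` when its vanishing ideal is. -/
def DefSet {A : Type u} [CommRing A] [HopfAlgebra k A] (S : Set (Pt K (K ⊗[k] A))) : Prop :=
  IsDef k K (vanIdeal S)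

end def_

section hopf

variable {k K : Type u} [Field k] [Field K] [Algebra k K]
  {A B C : Type u} [CommRing A] [HopfAlgebra k A] [CommRing B] [HopfAlgebra k B]
  [CommRing C] [HopfAlgebra k C]

lemma apply_eq_ext (x : Pt K (K ⊗[k] A)) (w : K ⊗[k] A) : x w = ext (rs x).toLinearMap w :=
  apply_eq x w

/-- The functional on `A ⧸ J0 S` given by a point of `S`. -/
def fq {S : Set (Pt K (K ⊗[k] A))} (x : Pt K (K ⊗[k] A)) (hx : x ∈ S) : A ⧸ J0 S →ₐ[k] K :=
  Ideal.Quotient.liftₐ _ (rs x) fun _ ha => ha x hx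

lemma sep_of_defSet {S : Set (Pt K (K ⊗[k] A))} (hS : DefSet k K S) :
    Sep {f : A ⧸ J0 S →ₗ[k] K | ∃ (x : Pt K (K ⊗[k] A)) (hx : x ∈ S), f = (fq x hx).toLinearMap} := by
  intro w hw
  obtain ⟨v, rfl⟩ := LinearMap.lTensor_surjective K
    (g := (Ideal.Quotient.mkₐ k (J0 S)).toLinearMap) Ideal.Quotient.mk_surjective w
  have hv : v ∈ vanIdeal S := by
    intro x hx
    have h1 := hw _ ⟨x, hx, rfl⟩
    rw [apply_eq_ext]
    rw [← h1]
    have : ext (rs x).toLinearMap = ext (fq x hx).toLinearMap ∘ₗ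
        (Ideal.Quotient.mkₐ k (J0 S)).toLinearMap.lTensor K := by
      apply TensorProduct.ext'
      intro c a
      rfl
    rw [this]
    rfl
  have h2 : v ∈ (J0 S).map (inc k K A) := by
    have : (J0 S).map (inc k K A) = vanIdeal S := hS
    rw [this]; exact hv
  rw [map_mk_eq_zero_iff] at h2
  exact h2

/-- **Images of `k`-defined sets under maps defined over `k`.** -/
theorem DefSet.image2 {S : Set (Pt K (K ⊗[k] B))} {T : Set (Pt K (K ⊗[k] C))} (hS : DefSet k K S)
    (hT : DefSet k K T) (γ : A →ₐ[k] B ⊗[k] C) (F : Pt K (K ⊗[k] B) → Pt K (K ⊗[k] C) → Pt K (K ⊗[k] A))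
    (hF : ∀ x ∈ S, ∀ y ∈ T, ∀ a, rs (F x y) a =
      Algebra.TensorProduct.lift (rs x) (rs y) (fun _ _ => Commute.all _ _) (γ a)) :
    DefSet k K (Set.image2 F S T) := by
  let ψ : A →ₐ[k] (B ⧸ J0 S) ⊗[k] (C ⧸ J0 T) :=
    (Algebra.TensorProduct.map (Ideal.Quotient.mkₐ k (J0 S)) (Ideal.Quotient.mkₐ k (J0 T))).comp γ
  have key : ∀ (x) (hx : x ∈ S) (y) (hy : y ∈ T) (z : K ⊗[k] A),
      (F x y) z = ext (prodF (fq x hx).toLinearMap (fq y hy).toLinearMap)
        (Algebra.TensorProduct.map (AlgHom.id K K) ψ z) := by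
    intro x hx y hy z
    rw [apply_eq_ext]
    induction z with
    | zero => simp
    | add u v hu hv => rw [map_add, map_add, map_add, hu, hv]
    | tmul c a =>
      rw [ext_tmul, Algebra.TensorProduct.map_tmul, ext_tmul]
      change c * rs (F x y) a = c * _
      rw [hF x hx y hy a]
      congr 1
      change _ = prodF (fq x hx).toLinearMap (fq y hy).toLinearMap
        (Algebra.TensorProduct.map (Ideal.Quotient.mkₐ k (J0 S)) (Ideal.Quotient.mkₐ k (J0 T)) (γ a))
      induction γ a with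
      | zero => simp
      | add u v hu hv => rw [map_add, map_add, map_add, hu, hv]
      | tmul b c => rfl
  have h : vanIdeal (Set.image2 F S T) =
      RingHom.ker (Algebra.TensorProduct.map (AlgHom.id K K) ψ) := by
    ext z
    rw [RingHom.mem_ker]
    constructor
    · intro hz
      apply sep_prod (sep_of_defSet hS) (sep_of_defSet hT)
      rintro f ⟨x, hx, rfl⟩ g ⟨y, hy, rfl⟩
      rw [← key]
      exact hz _ ⟨x, hx, y, hy, rfl⟩
    · rintro hz _ ⟨x, hx, y, hy, rfl⟩
      rw [key x hx y hy, hz, map_zero]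
  rw [DefSet, h]
  exact isDef_ker_map k K ψ

/-- Images under maps of one variable. -/
theorem DefSet.image {S : Set (Pt K (K ⊗[k] B))} (hS : DefSet k K S) (γ : A →ₐ[k] B)
    (F : Pt K (K ⊗[k] B) → Pt K (K ⊗[k] A)) (hF : ∀ x ∈ S, ∀ a, rs (F x) a = rs x (γ a)) :
    DefSet k K (F '' S) := by
  have h : vanIdeal (F '' S) = RingHom.ker (Algebra.TensorProduct.map (AlgHom.id K K)
      ((Ideal.Quotient.mkₐ k (J0 S)).comp γ)) := by
    ext z
    have key : ∀ (x) (hx : x ∈ S) (z : K ⊗[k] A),
        (F x) z = ext (fq x hx).toLinearMap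
          (Algebra.TensorProduct.map (AlgHom.id K K) ((Ideal.Quotient.mkₐ k (J0 S)).comp γ) z) := by
      intro x hx z
      rw [apply_eq_ext]
      induction z with
      | zero => simp
      | add u v hu hv => rw [map_add, map_add, map_add, hu, hv]
      | tmul c a =>
        rw [ext_tmul, Algebra.TensorProduct.map_tmul, ext_tmul]
        change c * rs (F x) a = c * _
        rw [hF x hx a]
        rfl
    rw [RingHom.mem_ker]
    constructor
    · intro hz
      apply sep_of_defSet hS
      rintro f ⟨x, hx, rfl⟩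
      rw [← key]
      exact hz _ ⟨x, hx, rfl⟩
    · rintro hz _ ⟨x, hx, rfl⟩
      rw [key x hx, hz, map_zero]
  rw [DefSet, h]
  exact isDef_ker_map k K _

theorem DefSet.mul {S T : Set (Pt K (K ⊗[k] A))} (hS : DefSet k K S) (hT : DefSet k K T) :
    DefSet k K (S * T) :=
  hS.image2 hT (Bialgebra.comulAlgHom k A) (fun x y => x * y) fun x _ y _ a => rs_mul x y a

theorem DefSet.inv {S : Set (Pt K (K ⊗[k] A))} (hS : DefSet k K S) : DefSet k K S⁻¹ := by
  rw [← Set.image_inv_eq_inv]
  exact hS.image (HopfAlgebra.antipodeAlgHom k A) (fun x => x⁻¹) fun x _ a => rs_inv x a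

theorem DefSet.iUnion {ι : Sort*} {S : ι → Set (Pt K (K ⊗[k] A))} (hS : ∀ i, DefSet k K (S i)) :
    DefSet k K (⋃ i, S i) := by
  have h : vanIdeal (⋃ i, S i) = ⨅ i, vanIdeal (S i) := by
    ext a
    simp only [Ideal.mem_iInf, mem_vanIdeal, Set.mem_iUnion]
    exact ⟨fun h i x hx => h x ⟨i, hx⟩, fun h x ⟨i, hx⟩ => h i x hx⟩
  rw [DefSet, h]
  exact isDef_iInf k K hS

theorem DefSet.union {S T : Set (Pt K (K ⊗[k] A))} (hS : DefSet k K S) (hT : DefSet k K T) :
    DefSet k K (S ∪ T) := by
  rw [Set.union_eq_iUnion]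
  exact DefSet.iUnion (by rintro (_ | _); exacts [hT, hS])

theorem defSet_one : DefSet k K ({1} : Set (Pt K (K ⊗[k] A))) := by
  have h : vanIdeal ({1} : Set (Pt K (K ⊗[k] A))) = RingHom.ker (Algebra.TensorProduct.map
      (AlgHom.id K K) (Bialgebra.counitAlgHom k A)) := by
    ext z
    rw [RingHom.mem_ker, mem_vanIdeal]
    have key : (1 : Pt K (K ⊗[k] A)) z = (Algebra.TensorProduct.rid k K K)
        (Algebra.TensorProduct.map (AlgHom.id K K) (Bialgebra.counitAlgHom k A) z) := by
      rw [apply_eq_ext]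
      induction z with
      | zero => simp
      | add u v hu hv => rw [map_add, map_add, map_add, hu, hv]
      | tmul c a =>
        rw [ext_tmul, Algebra.TensorProduct.map_tmul]
        change c * rs (1 : Pt K (K ⊗[k] A)) a = _
        rw [rs_one]
        simp [Algebra.smul_def, mul_comm]
    simp only [Set.mem_singleton_iff, forall_eq]
    rw [key]
    exact (Algebra.TensorProduct.rid k K K).map_eq_zero_iff
  rw [DefSet, h]
  exact isDef_ker_map k K _

theorem DefSet.pow {S : Set (Pt K (K ⊗[k] A))} (hS : DefSet k K S) (n : ℕ) : DefSet k K (S ^ n) := by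
  induction n with
  | zero => rw [pow_zero]; exact defSet_one
  | succ n ih => rw [pow_succ]; exact ih.mul hS

/-- Products of finitely many elements. -/
lemma coe_closure_eq {G : Type*} [Group G] (S : Set G) :
    (Subgroup.closure S : Set G) = ⋃ n : ℕ, (S ∪ S⁻¹) ^ n := by
  apply Set.Subset.antisymm
  · intro x hx
    have hx' : x ∈ Submonoid.closure (S ∪ S⁻¹) := by
      rw [← Subgroup.closure_toSubmonoid]; exact hx
    induction hx' using Submonoid.closure_induction with
    | mem y hy => exact Set.mem_iUnion.2 ⟨1, by simpa using hy⟩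
    | one => exact Set.mem_iUnion.2 ⟨0, by simp⟩
    | mul y z hy' hz' hy hz =>
      have e : ∀ w, w ∈ Submonoid.closure (S ∪ S⁻¹) → w ∈ (Subgroup.closure S : Set G) := by
        intro w hw
        rw [← Subgroup.closure_toSubmonoid] at hw
        exact hw
      obtain ⟨m, hm⟩ := Set.mem_iUnion.1 (hy (e _ hy'))
      obtain ⟨n, hn⟩ := Set.mem_iUnion.1 (hz (e _ hz'))
      exact Set.mem_iUnion.2 ⟨m + n, by rw [pow_add]; exact Set.mul_mem_mul hm hn⟩
  · intro x hx
    obtain ⟨n, hn⟩ := Set.mem_iUnion.1 hx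
    have : ∀ n x, x ∈ (S ∪ S⁻¹) ^ n → x ∈ (Subgroup.closure S : Set G) := by
      intro n
      induction n with
      | zero => intro x hx; rw [pow_zero, Set.mem_one] at hx; rw [hx]; exact one_mem _
      | succ n ih =>
        intro x hx
        rw [pow_succ] at hx
        obtain ⟨y, hy, z, hz, rfl⟩ := hx
        refine mul_mem (ih y hy) ?_
        rcases hz with hz | hz
        · exact Subgroup.subset_closure hz
        · exact (Subgroup.inv_mem_iff _).1 (Subgroup.subset_closure hz)
    exact this n x hn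

/-- **The subgroup generated by a set defined over `k` is defined over `k`.** -/
theorem DefSet.closure {S : Set (Pt K (K ⊗[k] A))} (hS : DefSet k K S) :
    DefSet k K (Subgroup.closure S : Set (Pt K (K ⊗[k] A))) := by
  rw [coe_closure_eq]
  exact DefSet.iUnion fun n => (hS.union hS.inv).pow n

theorem DefSet.clSub {H : Subgroup (Pt K (K ⊗[k] A))} (hS : DefSet k K (H : Set (Pt K (K ⊗[k] A)))) :
    DefSet k K (clSub H : Set (Pt K (K ⊗[k] A))) := by
  rw [DefSet, vanIdeal_clSub]; exact hS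

/-- Images under maps given by words. -/
theorem DefSet.word {S T : Set (Pt K (K ⊗[k] A))} (hS : DefSet k K S) (hT : DefSet k K T)
    (W : WithConv (A →ₐ[k] A ⊗[k] A)) (F : Pt K (K ⊗[k] A) → Pt K (K ⊗[k] A) → Pt K (K ⊗[k] A))
    (hF : ∀ x y, mapPt (FixDef.ev x y) W = res k K A K (F x y)) :
    DefSet k K (Set.image2 F S T) := by
  refine hS.image2 hT W.ofConv _ fun x _ g _ a => ?_
  exact (DFunLike.congr_fun (congrArg WithConv.ofConv (hF x g)) a).symm

lemma mapPt_ev_left (x y : Pt K (K ⊗[k] A)) :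
    mapPt (FixDef.ev x y) (toConv (Algebra.TensorProduct.includeLeft : A →ₐ[k] A ⊗[k] A)) =
      res k K A K x := by
  apply WithConv.ofConv_injective
  apply AlgHom.ext
  intro a
  change FixDef.ev x y (a ⊗ₜ 1) = rs x a
  rw [FixDef.ev_tmul, map_one, mul_one]

lemma mapPt_ev_right (x y : Pt K (K ⊗[k] A)) :
    mapPt (FixDef.ev x y) (toConv (Algebra.TensorProduct.includeRight : A →ₐ[k] A ⊗[k] A)) =
      res k K A K y := by
  apply WithConv.ofConv_injective
  apply AlgHom.ext
  intro a
  change FixDef.ev x y (1 ⊗ₜ a) = rs y a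
  rw [FixDef.ev_tmul, map_one, one_mul]

/-- The set of conjugates `g⁻¹ x g`, `x ∈ S`, `g ∈ T`. -/
theorem DefSet.conj {S T : Set (Pt K (K ⊗[k] A))} (hS : DefSet k K S) (hT : DefSet k K T) :
    DefSet k K (Set.image2 (fun x g => g⁻¹ * x * g) S T) := by
  refine hS.word hT ((toConv (Algebra.TensorProduct.includeRight : A →ₐ[k] A ⊗[k] A))⁻¹ *
    toConv (Algebra.TensorProduct.includeLeft : A →ₐ[k] A ⊗[k] A) *
    toConv (Algebra.TensorProduct.includeRight : A →ₐ[k] A ⊗[k] A)) _ fun x y => ?_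
  rw [map_mul, map_mul, map_inv, mapPt_ev_left, mapPt_ev_right, map_mul, map_mul, map_inv]

/-- The set of commutators. -/
theorem DefSet.commutatorSet {S T : Set (Pt K (K ⊗[k] A))} (hS : DefSet k K S) (hT : DefSet k K T) :
    DefSet k K (Set.image2 (fun x g => x * g * x⁻¹ * g⁻¹) S T) := by
  refine hS.word hT (toConv (Algebra.TensorProduct.includeLeft : A →ₐ[k] A ⊗[k] A) *
    toConv (Algebra.TensorProduct.includeRight : A →ₐ[k] A ⊗[k] A) *
    (toConv (Algebra.TensorProduct.includeLeft : A →ₐ[k] A ⊗[k] A))⁻¹ *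
    (toConv (Algebra.TensorProduct.includeRight : A →ₐ[k] A ⊗[k] A))⁻¹) _ fun x y => ?_
  simp only [map_mul, map_inv, mapPt_ev_left, mapPt_ev_right]

/-- Commutators of subgroups are defined over `k`. -/
theorem DefSet.commutator {H N : Subgroup (Pt K (K ⊗[k] A))}
    (hS : DefSet k K (H : Set (Pt K (K ⊗[k] A)))) (hT : DefSet k K (N : Set (Pt K (K ⊗[k] A)))) :
    DefSet k K ((⁅H, N⁆ : Subgroup (Pt K (K ⊗[k] A))) : Set (Pt K (K ⊗[k] A))) := by
  have h : (⁅H, N⁆ : Subgroup (Pt K (K ⊗[k] A))) = Subgroup.closure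
      (Set.image2 (fun x g => x * g * x⁻¹ * g⁻¹) (H : Set (Pt K (K ⊗[k] A))) N) := by
    rw [Subgroup.commutator_def]
    congr 1
  rw [h]
  exact (hS.commutatorSet hT).closure

variable (k K A) in
theorem defSet_univ [IsAlgClosed K] [Algebra.FiniteType k A] [_root_.IsReduced (K ⊗[k] A)] :
    DefSet k K (Set.univ : Set (Pt K (K ⊗[k] A))) := by
  rw [DefSet, vanIdeal_univ]
  exact isDef_of_eq_map k K (J := ⊥) (by rw [Ideal.map_bot])

/-- The normal closure of a set. -/
lemma normalClosure_eq {G : Type*} [Group G] (S : Set G) :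
    Subgroup.normalClosure S = Subgroup.closure (Set.image2 (fun x g => g⁻¹ * x * g) S Set.univ) := by
  rw [Subgroup.normalClosure]
  congr 1
  ext x
  rw [Group.mem_conjugatesOfSet_iff]
  constructor
  · rintro ⟨a, ha, hx⟩
    obtain ⟨c, rfl⟩ := isConj_iff.1 hx
    exact ⟨a, ha, c⁻¹, trivial, by simp⟩
  · rintro ⟨a, ha, g, -, rfl⟩
    exact ⟨a, ha, isConj_iff.2 ⟨g⁻¹, by simp⟩⟩

/-- The closure of a normal subgroup is normal. -/
theorem normal_clSub {K : Type u} [Field K] {A : Type u} [CommRing A] [HopfAlgebra K A]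
    {N : Subgroup (Pt K A)} (hN : N.Normal) : (clSub N).Normal := by
  constructor
  intro x hx g
  have h1 : IsCl ((fun y : Pt K A => g * y * g⁻¹) ⁻¹' (clSub N : Set (Pt K A))) :=
    (isReg_conj g).isCl_preimage (isCl_clSub N)
  have h2 : (N : Set (Pt K A)) ⊆ (fun y : Pt K A => g * y * g⁻¹) ⁻¹' (clSub N : Set (Pt K A)) :=
    fun y hy => le_clSub N (hN.conj_mem y hy g)
  exact h1 (zeros_anti (vanIdeal_anti h2) hx)

section main

variable [IsAlgClosed K] [Algebra.FiniteType k A]

theorem DefSet.normalClosure [_root_.IsReduced (K ⊗[k] A)] {S : Set (Pt K (K ⊗[k] A))}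
    (hS : DefSet k K S) : DefSet k K (Subgroup.normalClosure S : Set (Pt K (K ⊗[k] A))) := by
  rw [normalClosure_eq]
  exact (hS.conj (defSet_univ k K A)).closure

omit [Algebra.FiniteType k A] [IsAlgClosed K] in
theorem isConn_normalClosure {S : Set (Pt K (K ⊗[k] A))} (hc : IsConn S) (h1 : 1 ∈ S) :
    IsConn (Subgroup.normalClosure S : Set (Pt K (K ⊗[k] A))) := by
  have h2 := isConn_subgroupClosure (fun g : Pt K (K ⊗[k] A) => (fun x => g * x * g⁻¹) '' S)
    (fun g => hc.image_reg (isReg_conj g)) (fun g => ⟨1, h1, by simp⟩)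
  have h3 : Subgroup.normalClosure S =
      Subgroup.closure (⋃ g : Pt K (K ⊗[k] A), (fun x => g * x * g⁻¹) '' S) := by
    rw [normalClosure_eq]
    congr 1
    ext x
    rw [Set.mem_iUnion]
    constructor
    · rintro ⟨a, ha, g, -, rfl⟩
      exact ⟨g⁻¹, a, ha, by simp⟩
    · rintro ⟨g, a, ha, rfl⟩
      exact ⟨a, ha, g⁻¹, trivial, by simp⟩
  rw [h3]
  exact h2

/-- **The closed normal subgroup generated by an irreducible `k`-defined set through `1`.** -/
theorem exists_normal_of_subset [_root_.IsReduced (K ⊗[k] A)] {S : Set (Pt K (K ⊗[k] A))}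
    (hS : DefSet k K S) (hc : IsConn S) (h1 : 1 ∈ S) {R : Subgroup (Pt K (K ⊗[k] A))}
    (hRn : R.Normal) (hRcl : IsCl (R : Set (Pt K (K ⊗[k] A)))) (hSR : S ⊆ R) :
    ∃ N : Subgroup (Pt K (K ⊗[k] A)), N.Normal ∧ IsCl (N : Set (Pt K (K ⊗[k] A))) ∧
      IsConn (N : Set (Pt K (K ⊗[k] A))) ∧ DefSet k K (N : Set (Pt K (K ⊗[k] A))) ∧ S ⊆ N ∧ N ≤ R := by
  refine ⟨clSub (Subgroup.normalClosure S), normal_clSub Subgroup.normalClosure_normal, isCl_clSub _,
    isConn_clSub (isConn_normalClosure hc h1), hS.normalClosure.clSub, ?_, ?_⟩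
  · exact Subgroup.subset_normalClosure.trans (le_clSub _)
  · exact clSub_le (Subgroup.normalClosure_le_normal hSR) hRcl

end main

end hopf

end

end K540.DefPts
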