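import Groth.Agent.PRed.K540.NoTor
import Groth.Agent.PRed.K540.DefPts
import Groth.Agent.Agf.H609.SchGlue
import Groth.Agent.Sga3B.RG.BrRed
import Groth.Agent.Sga3B.RadOpen.PtTorus
import Groth.Agent.Sga3B.NormBc
import Mathlib.AlgebraicGeometry.Morphisms.LocalFlatDescent

/-!
# Subgroup schemes over `k` and `k`-defined subgroups of the group of `K`-points

`k ⊆ K`, `K` algebraically closed, `e : G ≅ Spec A` over `k`, `A` a Hopf algebra of finite type.

* `P K e i`: the subgroup of `Pt K (K ⊗ A)` of a subgroup scheme `i : U ⟶ G`;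
* `isCl_P`, `defSet_P`, `isConn_P`, `normal_P`, `isUnip_P`, `exists_factor_of_P_le`, `isTrivialGrp_of_P`;
* `exists_sub`: every closed `k`-defined subgroup comes from a smooth closed subgroup scheme.
-/

set_option autoImplicit false
universe u
open CategoryTheory MonoidalCategory CartesianMonoidalCategory MonObj GrpObj AlgebraicGeometry Limits
open TensorProduct WithConv
open Groth.Agent.Books.AffBridge Groth.Agent.Books.AffBridge2
open Groth.Agent.Sga3B
open Groth.Agent.Agf.H601 (inc IsDef)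

namespace K540.Bridge

open Groth.Agent.Sga3B.RG Groth.Agent.Sga3B.RG.BrPts Groth.Agent.Agf.H609.DefSub Groth.Agent.Agf.H609.SchBc
open Groth.Agent.Books.AlgPts Groth.Agent.Books.AlgPtsSmooth Groth.Agent.Books.AlgPtsGrp Groth.Agent.Books.AlgPtsIrred
open K540.DefPts K540.NoTor

noncomputable section

/-- Normality descends along faithfully flat quasi-compact base change. -/
theorem isNormalHom_of_bc {S S' : Scheme.{u}} (f : S' ⟶ S) [Surjective f] [Flat f] [QuasiCompact f]
    {N G : Over S} [GrpObj N] [GrpObj G] (i : N ⟶ G) [Mono i]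
    (h : AlgGrp.IsNormalHom ((Over.pullback f).map i)) : AlgGrp.IsNormalHom i := by
  intro T g n
  obtain ⟨x, hx⟩ := h _ ((Over.pullback f).map g) ((Over.pullback f).map n)
  obtain ⟨y, hy⟩ := Par.DynDesc383.exists_factor_of_bc f (g * (n ≫ i) * g⁻¹) i ⟨x, by
    rw [← hx, Functor.map_mul, Functor.map_mul, Functor.map_inv', Functor.map_comp]⟩
  exact ⟨y, hy.symm⟩

/-- Smoothness descends. -/
theorem smooth_of_bc {S S' : Scheme.{u}} (f : S' ⟶ S) [Surjective f] [Flat f] [QuasiCompact f]
    {N : Over S} (h : Smooth (Red.bc f N).hom) : Smooth N.hom := by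
  refine MorphismProperty.of_isPullback_of_descendsAlong (P := @Smooth)
      (Q := @Surjective ⊓ @Flat ⊓ @QuasiCompact) (IsPullback.of_hasPullback N.hom f).flip
      ⟨⟨inferInstance, inferInstance⟩, inferInstance⟩ h

section setup

variable (k K : Type u) [Field k] [Field K] [Algebra k K]

/-- The base change morphism. -/
abbrev F : Spec (CommRingCat.of K) ⟶ Spec (CommRingCat.of k) := Spec.map (CommRingCat.ofHom (algebraMap k K))

instance surjective_F : Surjective (F k K) := Groth.Agent.Agf.H614.FieldGlue.surjective_spec_field _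

instance flat_F : Flat (F k K) := Groth.Agent.Agf.H614.FieldGlue.flat_of_spec_field _

variable {k} {A : Type u} [CommRing A] [HopfAlgebra k A] {G : Over (Spec (CommRingCat.of k))} [GrpObj G]

omit [GrpObj G] in
/-- Base change of a presentation `G ≅ Spec A`. -/
def eK (e : G ≅ SpecOver k A) : Red.bc (F k K) G ≅ SpecOver K (K ⊗[k] A) :=
  (Over.pullback (F k K)).mapIso e ≪≫ E K (F k K) rfl A

instance isMonHom_eK (e : G ≅ SpecOver k A) [IsMonHom e.hom] : IsMonHom (eK K e).hom := by
  have := isMonHom_E (K := K) (A := A) (F k K) rfl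
  exact inferInstanceAs (IsMonHom ((Over.pullback (F k K)).map e.hom ≫ (E K (F k K) rfl A).hom))

/-- The group of `K`-points of `G`. -/
def gEquiv (e : G ≅ SpecOver k A) [IsMonHom e.hom] :
    (𝟙_ (Over (Spec (CommRingCat.of K))) ⟶ Red.bc (F k K) G) ≃* Pt K (K ⊗[k] A) where
  toFun g := (ptEquiv K (K ⊗[k] A)).symm (g ≫ (eK K e).hom)
  invFun x := ptEquiv K (K ⊗[k] A) x ≫ (eK K e).inv
  left_inv g := by
    dsimp only
    rw [MulEquiv.apply_symm_apply, Category.assoc, Iso.hom_inv_id, Category.comp_id]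
  right_inv x := by
    dsimp only
    rw [Category.assoc, Iso.inv_hom_id, Category.comp_id, MulEquiv.symm_apply_apply]
  map_mul' g h := by rw [MonObj.mul_comp, map_mul]

lemma ptEquiv_gEquiv (e : G ≅ SpecOver k A) [IsMonHom e.hom]
    (g : 𝟙_ (Over (Spec (CommRingCat.of K))) ⟶ Red.bc (F k K) G) :
    ptEquiv K (K ⊗[k] A) (gEquiv K e g) = g ≫ (eK K e).hom := MulEquiv.apply_symm_apply _ _

variable (e : G ≅ SpecOver k A) [IsMonHom e.hom]

/-- The points of a subgroup scheme. -/
def P {U : Over (Spec (CommRingCat.of k))} [GrpObj U] (i : U ⟶ G) [IsMonHom i] :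
    Subgroup (Pt K (K ⊗[k] A)) :=
  ptsSub ((Over.pullback (F k K)).map i ≫ (eK K e).hom)

variable {U : Over (Spec (CommRingCat.of k))} [GrpObj U] (i : U ⟶ G) [IsMonHom i]

lemma mem_P {g : Pt K (K ⊗[k] A)} : g ∈ P K e i ↔
    ∃ u : 𝟙_ (Over (Spec (CommRingCat.of K))) ⟶ Red.bc (F k K) U,
      u ≫ (Over.pullback (F k K)).map i = (gEquiv K e).symm g := by
  rw [P, mem_ptsSub]
  refine exists_congr fun u => ?_
  rw [← Category.assoc, ← Iso.eq_comp_inv]
  rfl

lemma gEquiv_mem_P {g : 𝟙_ (Over (Spec (CommRingCat.of K))) ⟶ Red.bc (F k K) G} : gEquiv K e g ∈ P K e i ↔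
    ∃ u : 𝟙_ (Over (Spec (CommRingCat.of K))) ⟶ Red.bc (F k K) U,
      u ≫ (Over.pullback (F k K)).map i = g := by
  rw [mem_P, MulEquiv.symm_apply_apply]

omit [GrpObj U] in
lemma smooth_bc [Smooth U.hom] : Smooth (Red.bc (F k K) U).hom :=
  Groth.Agent.Agf.H614.FieldGlue.smooth_bc _ _

/-- Points of a composite. -/
lemma P_comp_le {V : Over (Spec (CommRingCat.of k))} [GrpObj V] (j : V ⟶ U) [IsMonHom j] :
    P K e (j ≫ i) ≤ P K e i := by
  intro g hg
  rw [mem_P] at hg ⊢
  obtain ⟨u, hu⟩ := hg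
  exact ⟨u ≫ (Over.pullback (F k K)).map j, by rw [Category.assoc, ← Functor.map_comp, hu]⟩

theorem P_id : P K e (𝟙 G) = ⊤ := by
  rw [eq_top_iff]
  intro g _
  rw [mem_P]
  exact ⟨(gEquiv K e).symm g, by rw [CategoryTheory.Functor.map_id, Category.comp_id]⟩

/-- Normal subgroups. -/
theorem normal_P (h : AlgGrp.IsNormalHom i) : (P K e i).Normal :=
  normal_ptsSub _ (BrRed2.isNormalHom_comp_iso _ (eK K e) (NormBc.isNormalHom_bc (F k K) i h))

theorem P_eq_bot_of_isTrivialGrp (h : Red.IsTrivialGrp U) : P K e i = ⊥ :=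
  ptsSub_eq_bot_of_isTrivialGrp _ (RedIso.isTrivialGrp_bc (F k K) h)

section ac

variable [IsAlgClosed K]

include e in
omit [GrpObj G] [IsMonHom e.hom] in
/-- `K ⊗ A` is reduced when `G` is smooth. -/
lemma isReduced_tensor [Algebra.FiniteType k A] [Smooth G.hom] : _root_.IsReduced (K ⊗[k] A) := by
  have h1 : Smooth (Red.bc (F k K) G).hom := Groth.Agent.Agf.H614.FieldGlue.smooth_bc _ _
  have h3 : Smooth (SpecOver K (K ⊗[k] A)).hom := by
    rw [hom_eq_of_iso (eK K e).symm]
    have : IsIso (eK K e).symm.hom.left := inferInstanceAs (IsIso ((Over.forget _).map (eK K e).inv))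
    infer_instance
  exact (BrPts.smooth_iff (K := K) _).1 h3

include e in
omit [IsMonHom e.hom] in
/-- `K ⊗ A` is a domain when `G` is smooth and connected. -/
lemma isDomain_tensor [Algebra.FiniteType k A] [Smooth G.hom]
    [ConnectedSpace G.left] : IsDomain (K ⊗[k] A) := by
  have h1 : Smooth (Red.bc (F k K) G).hom := Groth.Agent.Agf.H614.FieldGlue.smooth_bc _ _
  have h3 : Smooth (SpecOver K (K ⊗[k] A)).hom := by
    rw [hom_eq_of_iso (eK K e).symm]
    have : IsIso (eK K e).symm.hom.left := inferInstanceAs (IsIso ((Over.forget _).map (eK K e).inv))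
    infer_instance
  have h2 := Groth.Agent.Agf.H614.FieldGlue.connectedSpace_bc G (F k K)
  have h4 : ConnectedSpace (SpecOver K (K ⊗[k] A)).left :=
    (homeo (eK K e)).surjective.connectedSpace (homeo (eK K e)).continuous
  exact (BrPts.isDomain_iff (K := K) _).1 ⟨h3, h4⟩

variable [Algebra.FiniteType k A] [IsClosedImmersion i.left]

omit [GrpObj G] [GrpObj U] [IsMonHom e.hom] [IsMonHom i] [IsAlgClosed K] [Algebra.FiniteType k A] in
instance isClosedImmersion_P : IsClosedImmersion ((Over.pullback (F k K)).map i ≫ (eK K e).hom).left := by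
  have h1 : IsClosedImmersion ((Over.pullback (F k K)).map i).left :=
    MorphismProperty.of_isPullback (P := @IsClosedImmersion)
      (Par.DynDesc383.isPullback_map_left (F k K) i) inferInstance
  have h2 : IsIso (eK K e).hom.left := inferInstanceAs (IsIso ((Over.forget _).map (eK K e).hom))
  change IsClosedImmersion (((Over.pullback (F k K)).map i).left ≫ (eK K e).hom.left)
  infer_instance

variable [Smooth U.hom]

theorem isCl_P : IsCl (P K e i : Set (Pt K (K ⊗[k] A))) := by
  have := smooth_bc K (U := U)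
  exact (exists_iso_vanIdeal ((Over.pullback (F k K)).map i ≫ (eK K e).hom)).1

theorem isConn_P [ConnectedSpace U.left] : IsConn (P K e i : Set (Pt K (K ⊗[k] A))) := by
  have := smooth_bc K (U := U)
  have := Groth.Agent.Agf.H614.FieldGlue.connectedSpace_bc U (F k K)
  exact isConn_ptsSub _

theorem isUnip_P [ConnectedSpace U.left] (h : NoTor U) : ∀ g ∈ P K e i, IsUnip g := by
  have := smooth_bc K (U := U)
  have := Groth.Agent.Agf.H614.FieldGlue.connectedSpace_bc U (F k K)
  exact RadOpen.isUnip_of_hasNoSubtorus _ (hasNoSubtorus_of_noTor (noTor_bc (F k K) h))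

omit [Algebra.FiniteType k A] in
theorem isTrivialGrp_of_P (h : P K e i = ⊥) : Red.IsTrivialGrp U := by
  have := smooth_bc K (U := U)
  exact isTrivialGrp_of_bc (F k K) (isTrivialGrp_of_ptsSub_eq_bot _ h)

/-- A presentation of the points of a smooth closed subgroup scheme. -/
theorem exists_bialgHom_P : ∃ (B : Type u) (_ : CommRing B) (_ : HopfAlgebra k B) (eU : U ≅ SpecOver k B)
    (_ : IsMonHom eU.hom) (_ : Algebra.FiniteType k B) (_ : _root_.IsReduced (K ⊗[k] B)) (φ : A →ₐc[k] B),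
    Function.Surjective φ ∧ eU.hom ≫ specMap k (φ : A →ₐ[k] B) = i ≫ e.hom ∧
    P K e i = (Pt.map (bcm K φ)).range := by
  have hGaff : IsAffine G.left := by
    have : IsIso e.hom.left := inferInstanceAs (IsIso ((Over.forget _).map e.hom))
    have : IsAffine (SpecOver k A).left := inferInstanceAs (IsAffine (Spec (CommRingCat.of A)))
    exact IsAffine.of_isIso e.hom.left
  have hUaff : IsAffine U.left := isAffine_of_isAffineHom i.left
  obtain ⟨B, _, _, eU, heU, hftB⟩ := RG.BrHc.exists_hopf_ft U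
  have heUinv : IsMonHom eU.inv := inferInstance
  obtain ⟨φ, hφ0⟩ := exists_bialgHom_of_isMonHom k (eU.inv ≫ i ≫ e.hom)
  have hφ : eU.hom ≫ specMap k (φ : A →ₐ[k] B) = i ≫ e.hom := by
    rw [hφ0, Iso.hom_inv_id_assoc]
  have hcl : IsClosedImmersion (specMap k (φ : A →ₐ[k] B)).left := by
    rw [hφ0]
    have h1 : IsIso eU.inv.left := inferInstanceAs (IsIso ((Over.forget _).map eU.inv))
    have h2 : IsIso e.hom.left := inferInstanceAs (IsIso ((Over.forget _).map e.hom))
    change IsClosedImmersion (eU.inv.left ≫ i.left ≫ e.hom.left)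
    infer_instance
  have hs : Function.Surjective φ := (isClosedImmersion_specMap_iff k (φ : A →ₐ[k] B)).1 hcl
  refine ⟨B, inferInstance, inferInstance, eU, heU, hftB, isReduced_tensor K eU, φ, hs, hφ, ?_⟩
  refine ptsSub_eq_range _ (bcm K φ) (eK K eU) ?_
  change ((Over.pullback (F k K)).map eU.hom ≫ (E K (F k K) rfl B).hom) ≫ _ =
    (Over.pullback (F k K)).map i ≫ (Over.pullback (F k K)).map e.hom ≫ (E K (F k K) rfl A).hom
  rw [Category.assoc, ← E_nat, ← Functor.map_comp_assoc, ← Functor.map_comp_assoc, hφ]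

theorem defSet_P : DefSet k K (P K e i : Set (Pt K (K ⊗[k] A))) := by
  obtain ⟨B, _, _, eU, _, _, _, φ, -, -, h⟩ := exists_bialgHom_P K e i
  rw [h]
  exact isDef_range_bcm φ

variable {V : Over (Spec (CommRingCat.of k))} [GrpObj V] (j : V ⟶ G) [IsMonHom j]
  [IsClosedImmersion j.left]

omit [IsClosedImmersion i.left] in
/-- Inclusions of subgroup schemes can be checked on points. -/
theorem exists_factor_of_P_le (h : P K e i ≤ P K e j) : ∃ f : U ⟶ V, f ≫ j = i := by
  have := smooth_bc K (U := U)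
  have hm : Mono j := mono_of_isClosedImmersion j
  refine Par.DynDesc383.exists_factor_of_bc (F k K) i j ?_
  obtain ⟨f, hf⟩ := exists_factor_of_le _ _ h
  refine ⟨f, ?_⟩
  rw [← cancel_mono (eK K e).hom, Category.assoc, hf]

omit [IsClosedImmersion i.left] [Algebra.FiniteType k A] [IsClosedImmersion j.left] [IsAlgClosed K] [Smooth U.hom] in
theorem P_le_of_factor (f : U ⟶ V) (h : f ≫ j = i) : P K e i ≤ P K e j := by
  intro g hg
  rw [mem_P] at hg ⊢
  obtain ⟨u, hu⟩ := hg
  exact ⟨u ≫ (Over.pullback (F k K)).map f, by rw [Category.assoc, ← Functor.map_comp, h, hu]⟩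

theorem isNormalHom_of_P [Smooth G.hom] (h : (P K e i).Normal) : AlgGrp.IsNormalHom i := by
  have := smooth_bc K (U := U)
  have hm : Mono i := mono_of_isClosedImmersion i
  have := isReduced_tensor K e
  have h1 := isNormalHom_of_normal _ h
  have h3 : IsMonHom (eK K e).symm.hom := inferInstanceAs (IsMonHom (eK K e).inv)
  have h2 := BrRed2.isNormalHom_comp_iso _ (eK K e).symm h1
  rw [Category.assoc, Iso.symm_hom, Iso.hom_inv_id, Category.comp_id] at h2
  exact isNormalHom_of_bc (F k K) i h2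

omit [IsClosedImmersion i.left] [Smooth U.hom] [GrpObj U] [IsMonHom i] [Algebra.FiniteType k A] in
/-- Absence of tori. -/
theorem noTor_of_P [GrpObj U] [IsMonHom i] [Mono i] (h : ∀ g ∈ P K e i, IsUnip g) : NoTor U := by
  refine noTor_of_bc (F k K) (noTor_of_hasNoSubtorus ?_)
  exact BrRed.hasNoSubtorus_of_unip _ h

omit [IsClosedImmersion i.left] [Smooth U.hom] [GrpObj U] [IsMonHom i] in
/-- Every closed `k`-defined subgroup comes from a smooth closed subgroup scheme. -/
theorem exists_sub {N : Subgroup (Pt K (K ⊗[k] A))} (hcl : IsCl (N : Set (Pt K (K ⊗[k] A))))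
    (hd : DefSet k K (N : Set (Pt K (K ⊗[k] A)))) :
    ∃ (U : Over (Spec (CommRingCat.of k))) (_ : GrpObj U) (i : U ⟶ G) (_ : IsMonHom i),
      IsClosedImmersion i.left ∧ Smooth U.hom ∧ P K e i = N ∧
      (IsConn (N : Set (Pt K (K ⊗[k] A))) → ConnectedSpace U.left) := by
  have hJ := isHopfIdeal_J0 N hd
  have heinv : IsMonHom e.inv := inferInstance
  let ψ : A →ₐc[k] A ⧸ J0 (N : Set (Pt K (K ⊗[k] A))) := qk N
  have hcl1 : IsClosedImmersion
      (specMap k (ψ : A →ₐ[k] A ⧸ J0 (N : Set (Pt K (K ⊗[k] A))))).left :=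
    (isClosedImmersion_specMap_iff k
      (ψ : A →ₐ[k] A ⧸ J0 (N : Set (Pt K (K ⊗[k] A))))).2 Ideal.Quotient.mk_surjective
  have hmon : IsMonHom (specMap k (ψ : A →ₐ[k] A ⧸ J0 (N : Set (Pt K (K ⊗[k] A))))) :=
    isMonHom_specMap k ψ
  have hred := isReduced_quot hd
  have hsmK : Smooth (SpecOver K (K ⊗[k] (A ⧸ J0 (N : Set (Pt K (K ⊗[k] A)))))).hom :=
    (BrPts.smooth_iff _).2 hred
  have hsm : Smooth (SpecOver k (A ⧸ J0 (N : Set (Pt K (K ⊗[k] A))))).hom := by
    refine smooth_of_bc (F k K) ?_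
    rw [hom_eq_of_iso (eK K (Iso.refl (SpecOver k (A ⧸ J0 (N : Set (Pt K (K ⊗[k] A)))))))]
    have : IsIso (eK K (Iso.refl (SpecOver k (A ⧸ J0 (N : Set (Pt K (K ⊗[k] A))))))).hom.left :=
      inferInstanceAs (IsIso ((Over.forget _).map (eK K (Iso.refl _)).hom))
    infer_instance
  have hcl2 : IsClosedImmersion
      (specMap k (ψ : A →ₐ[k] A ⧸ J0 (N : Set (Pt K (K ⊗[k] A)))) ≫ e.inv).left := by
    have h1 : IsIso e.inv.left := inferInstanceAs (IsIso ((Over.forget _).map e.inv))
    change IsClosedImmersion ((specMap k (ψ : A →ₐ[k] A ⧸ J0 (N : Set (Pt K (K ⊗[k] A))))).left ≫ e.inv.left)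
    infer_instance
  refine ⟨SpecOver k (A ⧸ J0 (N : Set (Pt K (K ⊗[k] A)))), inferInstance,
    specMap k (ψ : A →ₐ[k] A ⧸ J0 (N : Set (Pt K (K ⊗[k] A)))) ≫ e.inv, inferInstance, hcl2, hsm, ?_, ?_⟩
  · refine Eq.trans ?_ (range_map_qK hcl hd)
    refine ptsSub_eq_range _ (qK N) (eK K (Iso.refl (SpecOver k (A ⧸ J0 (N : Set (Pt K (K ⊗[k] A))))))) ?_
    change ((Over.pullback (F k K)).map (𝟙 _) ≫ (E K (F k K) rfl _).hom) ≫ _ =
      (Over.pullback (F k K)).map (specMap k (ψ : A →ₐ[k] A ⧸ J0 (N : Set (Pt K (K ⊗[k] A)))) ≫ e.inv) ≫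
        (Over.pullback (F k K)).map e.hom ≫ (E K (F k K) rfl A).hom
    rw [CategoryTheory.Functor.map_id, Category.id_comp, ← E_nat, ← Functor.map_comp_assoc, Category.assoc,
      Iso.inv_hom_id, Category.comp_id]
  · intro hc
    have hdom := isDomain_quot hc hd
    have hinj : Function.Injective (Algebra.TensorProduct.includeRight :
        A ⧸ J0 (N : Set (Pt K (K ⊗[k] A))) →ₐ[k] K ⊗[k] (A ⧸ J0 (N : Set (Pt K (K ⊗[k] A))))) :=
      Algebra.TensorProduct.includeRight_injective (algebraMap k K).injective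
    have : IsDomain (A ⧸ J0 (N : Set (Pt K (K ⊗[k] A)))) :=
      hinj.isDomain (Algebra.TensorProduct.includeRight :
        A ⧸ J0 (N : Set (Pt K (K ⊗[k] A))) →ₐ[k] K ⊗[k] (A ⧸ J0 (N : Set (Pt K (K ⊗[k] A))))).toRingHom
    change ConnectedSpace (PrimeSpectrum (A ⧸ J0 (N : Set (Pt K (K ⊗[k] A)))))
    infer_instance

end ac

end setup

end

end K540.Bridge
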