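import Groth.Agent.PRed.K540.Bridge

/-!
# Pseudo-reductive groups in terms of points

`HPR G`: the hypothesis "every smooth connected unipotent normal `k`-subgroup is trivial".
`PRedPt k K A`: the same for `k`-defined subgroups of `Pt K (K ⊗ A)`, `K` algebraically closed.

* `pRedPt_of_hpr`, `hpr_of_pRedPt`: they are equivalent;
* `subset_one`: an irreducible `k`-defined set of points through `1` inside a closed normal unipotent subgroup
  is trivial;
* `comm_of_points`: commutativity on points.
-/

set_option autoImplicit false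
universe u
open CategoryTheory MonoidalCategory CartesianMonoidalCategory MonObj GrpObj AlgebraicGeometry Limits
open TensorProduct WithConv
open Groth.Agent.Books.AffBridge Groth.Agent.Books.AffBridge2
open Groth.Agent.Sga3B
open Groth.Agent.Agf.H601 (inc IsDef)

namespace K540.PR

open Groth.Agent.Sga3B.RG Groth.Agent.Sga3B.RG.BrPts Groth.Agent.Agf.H609.DefSub Groth.Agent.Agf.H609.SchBc
open Groth.Agent.Books.AlgPts Groth.Agent.Books.AlgPtsSmooth Groth.Agent.Books.AlgPtsGrp
open K540.DefPts K540.NoTor K540.Bridge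

noncomputable section

/-- Pseudo-reductivity. -/
abbrev HPR {k : Type u} [Field k] (G : Over (Spec (CommRingCat.of k))) [GrpObj G] : Prop :=
  ∀ (U : Over (Spec (CommRingCat.of k))) [GrpObj U] (i : U ⟶ G) [IsMonHom i],
      IsClosedImmersion i.left → Smooth U.hom → ConnectedSpace ↥U.left → AlgGrp.IsNormalHom i →
      (∀ s : ↥(Spec (CommRingCat.of k)),
        Red.HasNoSubtorus (AlgebraicClosure ((Spec (CommRingCat.of k)).residueField s)) (Red.geomFibre s U)) →
      Red.IsTrivialGrp U

/-- Pseudo-reductivity in terms of points. -/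
def PRedPt (k K : Type u) [Field k] [Field K] [Algebra k K] (A : Type u) [CommRing A] [HopfAlgebra k A] : Prop :=
  ∀ N : Subgroup (Pt K (K ⊗[k] A)), IsCl (N : Set (Pt K (K ⊗[k] A))) →
    IsConn (N : Set (Pt K (K ⊗[k] A))) → N.Normal → DefSet k K (N : Set (Pt K (K ⊗[k] A))) →
    (∀ g ∈ N, IsUnip g) → N = ⊥

variable {k K : Type u} [Field k] [Field K] [Algebra k K] [IsAlgClosed K]
  {A : Type u} [CommRing A] [HopfAlgebra k A] [Algebra.FiniteType k A]
  {G : Over (Spec (CommRingCat.of k))} [GrpObj G]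

variable (K) in
theorem pRedPt_of_hpr [Smooth G.hom] (e : G ≅ SpecOver k A) [IsMonHom e.hom] (h : HPR G) :
    PRedPt k K A := by
  intro N hcl hc hn hd hu
  obtain ⟨U, _, i, _, hi, hsm, hP, hconn⟩ := exists_sub K e hcl hd
  have := hconn hc
  have hm : Mono i := mono_of_isClosedImmersion i
  have h1 : Red.IsTrivialGrp U := by
    refine h U i hi hsm inferInstance ?_ ?_
    · exact isNormalHom_of_P K e i (by rw [hP]; exact hn)
    · exact noTor_of_P K e i (by rw [hP]; exact hu)
  rw [← hP]
  exact P_eq_bot_of_isTrivialGrp K e i h1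

variable (K) in
theorem hpr_of_pRedPt (e : G ≅ SpecOver k A) [IsMonHom e.hom] (h : PRedPt k K A) :
    HPR G := by
  intro U _ i _ hi hsm hconn hn ht
  refine isTrivialGrp_of_P K e i ?_
  exact h _ (isCl_P K e i) (isConn_P K e i) (normal_P K e i hn) (defSet_P K e i) (isUnip_P K e i ht)

/-- An irreducible `k`-defined set through `1` inside a closed normal unipotent subgroup. -/
theorem subset_one [_root_.IsReduced (K ⊗[k] A)] (h : PRedPt k K A) {S : Set (Pt K (K ⊗[k] A))}
    (hS : DefSet k K S) (hc : IsConn S) (h1 : 1 ∈ S) {R : Subgroup (Pt K (K ⊗[k] A))}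
    (hRn : R.Normal) (hRcl : IsCl (R : Set (Pt K (K ⊗[k] A)))) (hRu : ∀ g ∈ R, IsUnip g) (hSR : S ⊆ R) :
    ∀ g ∈ S, g = 1 := by
  obtain ⟨N, hn, hcl, hcn, hd, hSN, hNR⟩ := exists_normal_of_subset hS hc h1 hRn hRcl hSR
  have h2 := h N hcl hcn hn hd fun g hg => hRu g (hNR hg)
  intro g hg
  have h3 := hSN hg
  rwa [h2] at h3

/-- Morphisms agreeing after base change. -/
theorem hom_ext_of_bc {S S' : Scheme.{u}} (f : S' ⟶ S) [Surjective f] [Flat f] [QuasiCompact f]
    {X Y : Over S} (a b : X ⟶ Y)
    (h : (Over.pullback f).map a = (Over.pullback f).map b) : a = b := by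
  have h0 : IsIso ((Over.pullback f).map (equalizer.ι a b)) := by
    have h1 := isLimitForkMapOfIsLimit (Over.pullback f) _ (equalizerIsEqualizer a b)
    have h2 : h1.lift (Fork.ofι (𝟙 _) (by rw [h])) ≫ (Over.pullback f).map (equalizer.ι a b) = 𝟙 _ :=
      h1.fac (Fork.ofι (𝟙 _) (by rw [h])) WalkingParallelPair.zero
    have : IsSplitEpi ((Over.pullback f).map (equalizer.ι a b)) := IsSplitEpi.mk' ⟨_, h2⟩
    exact isIso_of_mono_of_isSplitEpi _
  have h3 := Par.DynDesc383.isIso_of_bc f (equalizer.ι a b)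
  rw [← cancel_epi (equalizer.ι a b), equalizer.condition]

/-- Commutativity can be checked on points over an algebraically closed extension. -/
theorem comm_of_points (U : Over (Spec (CommRingCat.of k))) [GrpObj U] [Smooth U.hom] [IsSeparated U.hom]
    (h : ∀ x y : 𝟙_ (Over (Spec (CommRingCat.of K))) ⟶ Red.bc (F k K) U, x * y = y * x)
    (X : Over (Spec (CommRingCat.of k))) (a b : X ⟶ U) : a * b = b * a := by
  have h1 : fst U U * snd U U = snd U U * fst U U := by
    refine hom_ext_of_bc (F k K) _ _ ?_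
    have hsm : Smooth (U ⊗ U).hom := by
      rw [Over.tensorObj_hom]
      infer_instance
    have hsm' : Smooth (Red.bc (F k K) (U ⊗ U)).hom := Groth.Agent.Agf.H614.FieldGlue.smooth_bc _ _
    have hred : IsReduced (Red.bc (F k K) (U ⊗ U)).left := isReduced_of_smooth _
    have hsep : IsSeparated (Red.bc (F k K) U).hom :=
      inferInstanceAs (IsSeparated (pullback.snd U.hom (F k K)))
    refine hom_ext_of_points _ _ fun x => ?_
    rw [Functor.map_mul, Functor.map_mul, MonObj.comp_mul, MonObj.comp_mul, h]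
  have h2 := congr(lift a b ≫ $h1)
  rwa [MonObj.comp_mul, MonObj.comp_mul, lift_fst, lift_snd] at h2

variable (K) in
/-- Commutativity of a subgroup scheme in terms of its subgroup of points. -/
theorem comm_of_P (e : G ≅ SpecOver k A) [IsMonHom e.hom] {U : Over (Spec (CommRingCat.of k))} [GrpObj U]
    (i : U ⟶ G) [IsMonHom i] [Mono i] [Smooth U.hom] [IsSeparated U.hom]
    (h : ∀ x ∈ P K e i, ∀ y ∈ P K e i, x * y = y * x)
    (X : Over (Spec (CommRingCat.of k))) (a b : X ⟶ U) : a * b = b * a := by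
  refine comm_of_points (K := K) U (fun x y => ?_) X a b
  have h1 : ∀ z : 𝟙_ (Over (Spec (CommRingCat.of K))) ⟶ Red.bc (F k K) U,
      gEquiv K e (z ≫ (Over.pullback (F k K)).map i) ∈ P K e i := fun z => by
    rw [gEquiv_mem_P]
    exact ⟨z, rfl⟩
  have h2 := h _ (h1 x) _ (h1 y)
  rw [← map_mul, ← map_mul] at h2
  have h3 := (gEquiv K e).injective h2
  rw [← MonObj.mul_comp, ← MonObj.mul_comp] at h3
  exact (cancel_mono _).1 h3

end

end K540.PR
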